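/-
Torsion with respect to the positive part of a graded ring.
-/
import Groth.Prelude.Def_GrLC
import Mathlib.RingTheory.GradedAlgebra.Basic
import Mathlib.RingTheory.Ideal.Maps
import Mathlib.RingTheory.Finiteness.Ideal
import Mathlib.Algebra.Module.Torsion.Basic

set_option autoImplicit false
set_option backward.isDefEq.respectTransparency false

universe u

namespace GrTorsLib

variable {R A : Type u} [CommRing R] [CommRing A] [Algebra R A]
  (𝒜 : ℤ → Submodule R A) [GradedAlgebra 𝒜]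

theorem mem_pow_of_lt {p : ℕ} (f : Fin p → A) (deg : Fin p → ℤ)
    (hf : ∀ i, f i ∈ 𝒜 (deg i))
    (hgen : Ideal.span {a : A | ∃ n : ℤ, 0 < n ∧ a ∈ 𝒜 n} = Ideal.span (Set.range f))
    (d : ℤ) (hd : 0 ≤ d) (hdeg : ∀ i, deg i ≤ d) :
    ∀ (N : ℕ) (n : ℤ), N * d < n → ∀ a ∈ 𝒜 n, a ∈ Ideal.span (Set.range f) ^ (N + 1) := by
  intro N
  induction N with
  | zero =>
    intro n hn a ha
    rw [pow_one, ← hgen]
    exact Ideal.subset_span ⟨n, by simpa using hn, ha⟩
  | succ N ih =>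
    intro n hn a ha
    have hmem : a ∈ Ideal.span (Set.range f) := by
      rw [← hgen]
      exact Ideal.subset_span ⟨n, lt_of_le_of_lt (by positivity) hn, ha⟩
    obtain ⟨c, hc⟩ := Ideal.mem_span_range_iff_exists_fun.1 hmem
    have ha' : a = ∑ i, GradedRing.proj 𝒜 (n - deg i) (c i) * f i := by
      calc a = GradedRing.proj 𝒜 n a := (DirectSum.decompose_of_mem_same 𝒜 ha).symm
        _ = ∑ i, GradedRing.proj 𝒜 n (c i * f i) := by rw [← map_sum, hc]
        _ = _ := Finset.sum_congr rfl fun i _ => by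
          have h := DirectSum.coe_decompose_mul_add_of_right_mem 𝒜 (a := c i) (i := n - deg i)
            (hf i)
          rwa [sub_add_cancel] at h
    rw [ha', pow_succ]
    refine Ideal.sum_mem _ fun i _ => Ideal.mul_mem_mul (ih (n - deg i) ?_ _ ?_)
      (Ideal.subset_span ⟨i, rfl⟩)
    · have := hdeg i
      push_cast at hn
      linarith
    · exact (DirectSum.decompose 𝒜 (c i) (n - deg i)).2

theorem pow_le (d : ℤ) : ∀ n : ℕ, (𝒜 d) ^ n ≤ 𝒜 (n * d) := by
  intro n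
  induction n with
  | zero =>
    rw [pow_zero, Nat.cast_zero, zero_mul, Submodule.one_eq_span, Submodule.span_le]
    rintro _ rfl
    exact SetLike.one_mem_graded 𝒜
  | succ n ih =>
    rw [pow_succ, Submodule.mul_le]
    intro a ha b hb
    rw [Nat.cast_succ, add_mul, one_mul]
    exact SetLike.mul_mem_graded (ih ha) hb

theorem tfae {p : ℕ} (f : Fin p → A) (deg : Fin p → ℤ) (hdeg : ∀ i, 0 < deg i)
    (hf : ∀ i, f i ∈ 𝒜 (deg i))
    (hgen : Ideal.span {a : A | ∃ n : ℤ, 0 < n ∧ a ∈ 𝒜 n} = Ideal.span (Set.range f))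
    (d : ℤ) (hd : 0 < d) (hdvd : ∀ i, deg i ∣ d)
    {M : Type u} [AddCommGroup M] [Module A M] (x : M) :
    [x ∈ GrLC.gam (Ideal.span (Set.range f)) M,
     ∃ n₀ : ℕ, ∀ n : ℕ, n₀ ≤ n → ∀ r ∈ (𝒜 d) ^ n, r • x = 0,
     ∃ s : ℤ, ∀ n : ℤ, s ≤ n → ∀ r ∈ 𝒜 n, r • x = 0].TFAE := by
  tfae_have 1 → 3 := by
    rintro ⟨N, hN⟩
    refine ⟨N * d + 1, fun n hn r hr => hN r ?_⟩
    exact Ideal.pow_le_pow_right N.le_succ
      (mem_pow_of_lt 𝒜 f deg hf hgen d hd.le (fun i => Int.le_of_dvd hd (hdvd i)) N n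
        (by linarith) r hr)
  tfae_have 3 → 2 := by
    rintro ⟨s, hs⟩
    refine ⟨s.toNat, fun n hn r hr => hs _ ?_ r (pow_le 𝒜 d n hr)⟩
    have h1 : s ≤ n := (Int.self_le_toNat s).trans (by exact_mod_cast hn)
    exact h1.trans (le_mul_of_one_le_right (Int.natCast_nonneg n) hd)
  tfae_have 2 → 1 := by
    rintro ⟨n₀, h⟩
    have hle : Ideal.span (Set.range f) ≤
        (Ideal.torsionOf A M x).radical := by
      rw [Ideal.span_le]
      rintro _ ⟨i, rfl⟩
      obtain ⟨e, he⟩ := hdvd i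
      have he0 : 0 ≤ e := nonneg_of_mul_nonneg_right (he ▸ hd.le) (hdeg i)
      obtain ⟨e, rfl⟩ := Int.eq_ofNat_of_zero_le he0
      refine ⟨e * n₀, ?_⟩
      show f i ^ (e * n₀) • x = 0
      rw [pow_mul]
      refine h n₀ le_rfl _ (Submodule.pow_mem_pow _ ?_ _)
      have := SetLike.pow_mem_graded e (hf i)
      rwa [he, mul_comm, ← nsmul_eq_mul]
    obtain ⟨N, hN⟩ := Ideal.exists_pow_le_of_le_radical_of_fg hle
      (Submodule.fg_span (Set.finite_range f))
    exact ⟨N, fun r hr => hN hr⟩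
  tfae_finish

end GrTorsLib
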